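import Mathlib
import Groth.Prelude.Def_SGA3b
import Groth.Agent.Lib.Helper9.CommGrp.MultType

/-!
# Base change of bialgebras: cancellation, functoriality, group algebras (helper9)
-/

set_option autoImplicit false
set_option linter.style.haveILetI false

universe u v w

open TensorProduct

namespace Groth.Agent.H9.MT

section Repr

variable {R : Type*} {T : Type*} [CommRing R] [CommRing T] [Algebra R T]
  {A : Type*} [AddCommGroup A] [Module R A] [Coalgebra R A] {ι : Type*}

/-- comultiplication of a pure tensor of the base change, in terms of a representation -/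
lemma comul_tmul_repr (t : T) (a : A) (r : Coalgebra.Repr R a ι) :
    CoalgebraStruct.comul (R := T) (t ⊗ₜ[R] a) =
      ∑ i ∈ r.index, (t ⊗ₜ[R] r.left i) ⊗ₜ[T] ((1 : T) ⊗ₜ[R] r.right i) := by
  rw [TensorProduct.comul_tmul, ← r.eq, CommSemiring.comul_apply, TensorProduct.tmul_sum, map_sum]
  refine Finset.sum_congr rfl fun i _ => ?_
  rw [TensorProduct.AlgebraTensorModule.tensorTensorTensorComm_tmul]
  have h1 : ∀ a' : A, t ⊗ₜ[R] a' = t • ((1 : T) ⊗ₜ[R] a') := fun a' => by
    rw [TensorProduct.smul_tmul', smul_eq_mul, mul_one]
  rw [h1 (r.right i), h1 (r.left i), TensorProduct.smul_tmul]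

/-- a representation of `a` gives one of `t ⊗ a` -/
noncomputable def reprBC (t : T) {a : A} (r : Coalgebra.Repr R a ι) :
    Coalgebra.Repr T (t ⊗ₜ[R] a) ι where
  index := r.index
  left i := t ⊗ₜ[R] r.left i
  right i := (1 : T) ⊗ₜ[R] r.right i
  eq := (comul_tmul_repr t a r).symm

end Repr

section Cancel

variable (R : Type*) (S : Type*) (T : Type*) [CommRing R] [CommRing S] [CommRing T]
  [Algebra R S] [Algebra R T] [Algebra S T] [IsScalarTower R S T]
  (A : Type*) [CommRing A] [Bialgebra R A]

lemma cancel_counit (x : T ⊗[S] (S ⊗[R] A)) :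
    CoalgebraStruct.counit (R := T) (Algebra.TensorProduct.cancelBaseChange R S T T A x) =
      CoalgebraStruct.counit (R := T) x := by
  induction x using TensorProduct.induction_on with
  | zero => simp
  | add x y hx hy => rw [map_add, map_add, map_add, hx, hy]
  | tmul t y =>
    induction y using TensorProduct.induction_on with
    | zero => simp
    | add x y hx hy => rw [TensorProduct.tmul_add, map_add, map_add, map_add, hx, hy]
    | tmul s a =>
      rw [Algebra.TensorProduct.cancelBaseChange_tmul, TensorProduct.counit_tmul,
        TensorProduct.counit_tmul, TensorProduct.counit_tmul, CommSemiring.counit_apply,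
        CommSemiring.counit_apply, CommSemiring.counit_apply, smul_assoc]

lemma cancel_comul (x : T ⊗[S] (S ⊗[R] A)) :
    TensorProduct.map (Algebra.TensorProduct.cancelBaseChange R S T T A).toLinearMap
        (Algebra.TensorProduct.cancelBaseChange R S T T A).toLinearMap
        (CoalgebraStruct.comul (R := T) x) =
      CoalgebraStruct.comul (R := T) (Algebra.TensorProduct.cancelBaseChange R S T T A x) := by
  induction x using TensorProduct.induction_on with
  | zero => simp
  | add x y hx hy => rw [map_add, map_add, map_add, map_add, hx, hy]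
  | tmul t y =>
    induction y using TensorProduct.induction_on with
    | zero => simp
    | add x y hx hy => rw [TensorProduct.tmul_add, map_add, map_add, map_add, map_add, hx, hy]
    | tmul s a =>
      rw [comul_tmul_repr t (s ⊗ₜ[R] a) (reprBC s (Coalgebra.Repr.arbitrary R a)),
        Algebra.TensorProduct.cancelBaseChange_tmul,
        comul_tmul_repr (s • t) a (Coalgebra.Repr.arbitrary R a), map_sum]
      refine Finset.sum_congr rfl fun i _ => ?_
      rw [TensorProduct.map_tmul]
      show (Algebra.TensorProduct.cancelBaseChange R S T T A _) ⊗ₜ[T]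
        (Algebra.TensorProduct.cancelBaseChange R S T T A _) = _
      show (Algebra.TensorProduct.cancelBaseChange R S T T A (t ⊗ₜ[S] (s ⊗ₜ[R] _))) ⊗ₜ[T]
        (Algebra.TensorProduct.cancelBaseChange R S T T A ((1 : T) ⊗ₜ[S] ((1 : S) ⊗ₜ[R] _))) = _
      rw [Algebra.TensorProduct.cancelBaseChange_tmul, Algebra.TensorProduct.cancelBaseChange_tmul,
        one_smul]

/-- cancellation of base change, as a bialgebra isomorphism -/
noncomputable def cancelBC : T ⊗[S] (S ⊗[R] A) ≃ₐc[T] T ⊗[R] A :=
  BialgEquiv.ofAlgEquiv (Algebra.TensorProduct.cancelBaseChange R S T T A)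
    (by
      apply AlgHom.ext
      intro x
      exact cancel_counit R S T A x)
    (by
      apply AlgHom.ext
      intro x
      exact cancel_comul R S T A x)

lemma cancelBC_tmul (t : T) (s : S) (a : A) :
    cancelBC R S T A (t ⊗ₜ[S] (s ⊗ₜ[R] a)) = (s • t) ⊗ₜ[R] a :=
  Algebra.TensorProduct.cancelBaseChange_tmul R S T T A t s a

lemma cancelBC_symm_tmul (t : T) (a : A) :
    (cancelBC R S T A).symm (t ⊗ₜ[R] a) = t ⊗ₜ[S] ((1 : S) ⊗ₜ[R] a) :=
  Algebra.TensorProduct.cancelBaseChange_symm_tmul R S T T A t a

end Cancel

section Functor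

variable {R : Type*} (S : Type*) [CommRing R] [CommRing S] [Algebra R S]
  {A : Type*} [CommRing A] [Bialgebra R A] {B : Type*} [CommRing B] [Bialgebra R B]

/-- base change of a bialgebra isomorphism -/
noncomputable def bcEquiv (e : A ≃ₐc[R] B) : S ⊗[R] A ≃ₐc[S] S ⊗[R] B :=
  BialgEquiv.ofBialgHom
    (Bialgebra.TensorProduct.map (BialgHom.id S S) (e : A →ₐc[R] B))
    (Bialgebra.TensorProduct.map (BialgHom.id S S) (e.symm : B →ₐc[R] A))
    (by
      apply BialgHom.ext
      intro x
      induction x using TensorProduct.induction_on with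
      | zero => simp
      | add x y hx hy => rw [map_add, map_add, hx, hy]
      | tmul s b =>
        rw [BialgHom.comp_apply, Bialgebra.TensorProduct.map_tmul,
          Bialgebra.TensorProduct.map_tmul]
        simp)
    (by
      apply BialgHom.ext
      intro x
      induction x using TensorProduct.induction_on with
      | zero => simp
      | add x y hx hy => rw [map_add, map_add, hx, hy]
      | tmul s b =>
        rw [BialgHom.comp_apply, Bialgebra.TensorProduct.map_tmul,
          Bialgebra.TensorProduct.map_tmul]
        simp)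

lemma bcEquiv_tmul (e : A ≃ₐc[R] B) (s : S) (a : A) :
    bcEquiv S e (s ⊗ₜ[R] a) = s ⊗ₜ[R] e a :=
  Bialgebra.TensorProduct.map_tmul _ _ _ _

end Functor

section MonAlg

variable (R : Type*) (S : Type*) [CommRing R] [CommRing S] [Algebra R S]
  (M : Type*) [CommMonoid M]

lemma monAlg_counit (x : S ⊗[R] MonoidAlgebra R M) :
    CoalgebraStruct.counit (R := S) (MonoidAlgebra.scalarTensorEquiv R S x) =
      CoalgebraStruct.counit (R := S) x := by
  induction x using TensorProduct.induction_on with
  | zero => simp
  | add x y hx hy => rw [map_add, map_add, map_add, hx, hy]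
  | tmul t p =>
    induction p using MonoidAlgebra.induction_linear with
    | zero => simp
    | add x y hx hy => rw [TensorProduct.tmul_add, map_add, map_add, map_add, hx, hy]
    | single m r =>
      rw [MonoidAlgebra.scalarTensorEquiv_tmul, TensorProduct.counit_tmul,
        MonoidAlgebra.counit_single, CommSemiring.counit_apply, CommSemiring.counit_apply,
        map_smul]
      simp [Algebra.smul_def, mul_comm]

/-- the obvious representation of the comultiplication of a monomial -/
noncomputable def reprSingle (m : M) (r : R) :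
    Coalgebra.Repr R (MonoidAlgebra.single m r : MonoidAlgebra R M) Unit where
  index := Finset.univ
  left _ := MonoidAlgebra.single m 1
  right _ := MonoidAlgebra.single m r
  eq := by
    rw [MonoidAlgebra.comul_single, CommSemiring.comul_apply, TensorProduct.map_tmul]
    simp

lemma monAlg_comul (x : S ⊗[R] MonoidAlgebra R M) :
    TensorProduct.map (MonoidAlgebra.scalarTensorEquiv R S (M := M)).toLinearMap
        (MonoidAlgebra.scalarTensorEquiv R S (M := M)).toLinearMap
        (CoalgebraStruct.comul (R := S) x) =
      CoalgebraStruct.comul (R := S) (MonoidAlgebra.scalarTensorEquiv R S x) := by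
  induction x using TensorProduct.induction_on with
  | zero => simp
  | add x y hx hy => rw [map_add, map_add, map_add, map_add, hx, hy]
  | tmul t p =>
    induction p using MonoidAlgebra.induction_linear with
    | zero => simp
    | add x y hx hy => rw [TensorProduct.tmul_add, map_add, map_add, map_add, map_add, hx, hy]
    | single m r =>
      rw [comul_tmul_repr t _ (reprSingle R M m r)]
      simp only [reprSingle, Finset.univ_unique, Finset.sum_singleton]
      rw [TensorProduct.map_tmul]
      show (MonoidAlgebra.scalarTensorEquiv R S _) ⊗ₜ[S] (MonoidAlgebra.scalarTensorEquiv R S _) = _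
      rw [MonoidAlgebra.scalarTensorEquiv_tmul, MonoidAlgebra.scalarTensorEquiv_tmul,
        MonoidAlgebra.scalarTensorEquiv_tmul]
      rw [MonoidAlgebra.mapAlgHom_single, MonoidAlgebra.mapAlgHom_single, one_smul, map_one,
        map_smul, MonoidAlgebra.comul_single, CommSemiring.comul_apply, TensorProduct.map_tmul,
        MonoidAlgebra.lsingle_apply, MonoidAlgebra.lsingle_apply, TensorProduct.smul_tmul']

/-- base change of a group algebra, as a bialgebra isomorphism -/
noncomputable def monAlgBC : S ⊗[R] MonoidAlgebra R M ≃ₐc[S] MonoidAlgebra S M :=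
  BialgEquiv.ofAlgEquiv (MonoidAlgebra.scalarTensorEquiv R S)
    (by
      apply AlgHom.ext
      intro x
      exact monAlg_counit R S M x)
    (by
      apply AlgHom.ext
      intro x
      exact monAlg_comul R S M x)

lemma monAlgBC_tmul (t : S) (p : MonoidAlgebra R M) :
    monAlgBC R S M (t ⊗ₜ[R] p) = t • MonoidAlgebra.mapAlgHom M (Algebra.ofId R S) p :=
  MonoidAlgebra.scalarTensorEquiv_tmul t p

end MonAlg

section SGA

variable {R : Type u} [CommRing R] {A : Type u} [CommRing A] [HopfAlgebra R A]

/-- diagonalisable groups are stable under base change -/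
theorem isDiag_baseChange (S : Type u) [CommRing S] [Algebra R S] (h : SGA3b.IsDiag R A) :
    SGA3b.IsDiag S (S ⊗[R] A) := by
  obtain ⟨M, _, ⟨e⟩⟩ := h
  exact ⟨M, inferInstance, ⟨(bcEquiv S e).trans (monAlgBC R S M)⟩⟩

/-- groups of multiplicative type (constant type) are stable under base change -/
theorem isMultTypeConst_baseChange (S : Type u) [CommRing S] [Algebra R S]
    (h : SGA3b.IsMultTypeConst R A) : SGA3b.IsMultTypeConst S (S ⊗[R] A) := by
  obtain ⟨R', _, _, hff, M, _, ⟨e⟩⟩ := h
  letI : Algebra R' (S ⊗[R] R') := Algebra.TensorProduct.rightAlgebra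
  refine ⟨S ⊗[R] R', inferInstance, inferInstance, inferInstance, M, inferInstance, ⟨?_⟩⟩
  exact (cancelBC R S (S ⊗[R] R') A).trans ((cancelBC R R' (S ⊗[R] R') A).symm.trans
    ((bcEquiv (S ⊗[R] R') e).trans (monAlgBC R' (S ⊗[R] R') M)))

/-- being of multiplicative type (constant type) descends along faithfully flat maps -/
theorem isMultTypeConst_of_faithfullyFlat (S : Type u) [CommRing S] [Algebra R S]
    [Module.FaithfullyFlat R S] (h : SGA3b.IsMultTypeConst S (S ⊗[R] A)) :
    SGA3b.IsMultTypeConst R A := by
  obtain ⟨R', _, _, hff, M, _, ⟨e⟩⟩ := h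
  letI : Algebra R R' := Algebra.compHom R' (algebraMap R S)
  haveI : IsScalarTower R S R' := IsScalarTower.of_algebraMap_eq fun _ => rfl
  haveI : Module.FaithfullyFlat R R' := Module.FaithfullyFlat.trans R S R'
  exact ⟨R', inferInstance, inferInstance, inferInstance, M, inferInstance,
    ⟨(cancelBC R S R' A).symm.trans e⟩⟩

/-- constant type implies multiplicative type -/
theorem isMultType_of_isMultTypeConst (h : SGA3b.IsMultTypeConst R A) : SGA3b.IsMultType R A :=
  ⟨{1}, Ideal.span_singleton_one, fun f _ => isMultTypeConst_baseChange (Localization.Away f) h⟩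

end SGA

section Field

variable {k : Type u} [Field k] {A : Type u} [CommRing A] [HopfAlgebra k A]

/-- over a field, multiplicative type implies constant type -/
theorem isMultTypeConst_of_isMultType (h : SGA3b.IsMultType k A) : SGA3b.IsMultTypeConst k A := by
  obtain ⟨s, hs, h⟩ := h
  have hex : ∃ f ∈ s, f ≠ 0 := by
    by_contra hne
    push Not at hne
    have : Ideal.span s ≤ (⊥ : Ideal k) := by
      rw [Ideal.span_le]
      intro f hf
      exact (Submodule.mem_bot k).mpr (hne f hf)
    rw [hs] at this
    exact absurd (this (Submodule.mem_top (x := (1 : k)))) (by simp)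
  obtain ⟨f, hf, hf0⟩ := hex
  haveI : Nontrivial (Localization.Away f) := by
    rw [← not_subsingleton_iff_nontrivial,
      IsLocalization.subsingleton_iff (M := Submonoid.powers f)]
    rintro ⟨n, hn⟩
    exact hf0 (eq_zero_of_pow_eq_zero hn)
  exact isMultTypeConst_of_faithfullyFlat (Localization.Away f) (h f hf)

end Field

end Groth.Agent.H9.MT
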