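import Mathlib
import Groth.Prelude.Def_HopfRep
import Groth.Agent.Lib.Helper9.CommGrp.MultType

/-!
# Comodules over a group algebra are graded; module-split subcomodules split (helper9)
-/

set_option autoImplicit false
set_option linter.style.haveILetI false

universe u v w

open TensorProduct

namespace Groth.Agent.H9.MT.Graded

open Groth.Agent.H9.CommGrp

variable {k : Type u} [CommRing k] {M : Type v} [Monoid M]
  {V : Type w} [AddCommGroup V] [Module k V]

/-- the slice of a tensor at `m` -/
noncomputable def sl (m : M) : V ⊗[k] MonoidAlgebra k M →ₗ[k] V :=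
  (TensorProduct.rid k V).toLinearMap ∘ₗ LinearMap.lTensor V (coordAt k m)

lemma sl_tmul (m : M) (v : V) (x : MonoidAlgebra k M) :
    sl m (v ⊗ₜ[k] x) = x.coeff m • v := by
  simp [sl, coordAt_apply]

lemma coeff_counit (a : MonoidAlgebra k M) :
    CoalgebraStruct.counit (R := k) a = ∑ m ∈ a.coeff.support, a.coeff m := by
  classical
  induction a using MonoidAlgebra.induction_linear with
  | zero => simp
  | add x y hx hy =>
    rw [map_add, hx, hy, MonoidAlgebra.coeff_add]
    have h1 : ∑ m ∈ x.coeff.support, x.coeff m =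
        ∑ m ∈ x.coeff.support ∪ y.coeff.support, x.coeff m :=
      Finset.sum_subset Finset.subset_union_left fun m _ hm => by
        simpa using hm
    have h2 : ∑ m ∈ y.coeff.support, y.coeff m =
        ∑ m ∈ x.coeff.support ∪ y.coeff.support, y.coeff m :=
      Finset.sum_subset Finset.subset_union_right fun m _ hm => by
        simpa using hm
    have h3 : ∑ m ∈ (x.coeff + y.coeff).support, (x.coeff + y.coeff) m =
        ∑ m ∈ x.coeff.support ∪ y.coeff.support, (x.coeff + y.coeff) m :=
      Finset.sum_subset Finsupp.support_add fun m _ hm => by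
        simpa using hm
    rw [h1, h2, h3, ← Finset.sum_add_distrib]
    rfl
  | single m r =>
    rw [MonoidAlgebra.counit_single, CommSemiring.counit_apply, MonoidAlgebra.coeff_single]
    by_cases hr : r = 0
    · subst hr; simp
    · rw [Finsupp.support_single_ne_zero _ hr, Finset.sum_singleton, Finsupp.single_eq_same]

/-- the slices of a tensor vanish almost everywhere and sum to the counit contraction -/
lemma exists_sum_sl (t : V ⊗[k] MonoidAlgebra k M) :
    ∃ s : Finset M, (∀ m ∉ s, sl m t = 0) ∧
      ∑ m ∈ s, sl m t = TensorProduct.rid k V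
        (LinearMap.lTensor V (CoalgebraStruct.counit (R := k) (A := MonoidAlgebra k M)) t) := by
  classical
  induction t using TensorProduct.induction_on with
  | zero => exact ⟨∅, fun m _ => map_zero _, by simp⟩
  | tmul v a =>
    refine ⟨a.coeff.support, fun m hm => ?_, ?_⟩
    · rw [sl_tmul]
      have : a.coeff m = 0 := by simpa using hm
      rw [this, zero_smul]
    · simp only [sl_tmul]
      rw [← Finset.sum_smul, ← coeff_counit, LinearMap.lTensor_tmul, TensorProduct.rid_tmul]
  | add x y hx hy =>
    obtain ⟨s₁, h1, h1'⟩ := hx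
    obtain ⟨s₂, h2, h2'⟩ := hy
    refine ⟨s₁ ∪ s₂, fun m hm => ?_, ?_⟩
    · rw [Finset.mem_union, not_or] at hm
      rw [map_add, h1 m hm.1, h2 m hm.2, add_zero]
    · simp only [map_add]
      rw [Finset.sum_add_distrib, ← h1', ← h2']
      congr 1
      · exact (Finset.sum_subset Finset.subset_union_left fun m _ hm => h1 m hm).symm
      · exact (Finset.sum_subset Finset.subset_union_right fun m _ hm => h2 m hm).symm

lemma sl_comul (m : M) (a : MonoidAlgebra k M) :
    TensorProduct.rid k (MonoidAlgebra k M)
      (LinearMap.lTensor (MonoidAlgebra k M) (coordAt k m) (CoalgebraStruct.comul (R := k) a)) =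
      a.coeff m • MonoidAlgebra.single m 1 := by
  classical
  induction a using MonoidAlgebra.induction_linear with
  | zero => simp
  | add x y hx hy =>
    rw [map_add, map_add, map_add, hx, hy, MonoidAlgebra.coeff_add, Finsupp.add_apply, add_smul]
  | single g r =>
    rw [MonoidAlgebra.comul_single, CommSemiring.comul_apply, TensorProduct.map_tmul,
      LinearMap.lTensor_tmul, TensorProduct.rid_tmul, coordAt_apply, MonoidAlgebra.lsingle_apply,
      MonoidAlgebra.lsingle_apply, MonoidAlgebra.coeff_single]
    by_cases h : g = m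
    · subst h; rw [Finsupp.single_eq_same]
    · rw [Finsupp.single_eq_of_ne (Ne.symm h), zero_smul, zero_smul]

variable [HopfRep.Comod k (MonoidAlgebra k M) V]

/-- the coaction (shorthand) -/
noncomputable abbrev coact : V →ₗ[k] V ⊗[k] MonoidAlgebra k M :=
  HopfRep.Comod.coact (k := k) (A := MonoidAlgebra k M)

/-- the projection to the `m`-th graded piece -/
noncomputable def pr (m : M) : V →ₗ[k] V := sl m ∘ₗ coact

lemma pr_apply (m : M) (v : V) : pr (k := k) m v = sl m (coact (k := k) (M := M) v) := rfl

/-- the auxiliary contraction `v ⊗ (a ⊗ b) ↦ coeff_m(b) • v ⊗ a` -/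
noncomputable def Phi (m : M) :
    V ⊗[k] (MonoidAlgebra k M ⊗[k] MonoidAlgebra k M) →ₗ[k] V ⊗[k] MonoidAlgebra k M :=
  LinearMap.lTensor V ((TensorProduct.rid k (MonoidAlgebra k M)).toLinearMap ∘ₗ
    LinearMap.lTensor (MonoidAlgebra k M) (coordAt k m))

lemma Phi_left (m : M) (t : V ⊗[k] MonoidAlgebra k M) :
    Phi m ((TensorProduct.assoc k V (MonoidAlgebra k M) (MonoidAlgebra k M))
      ((coact (k := k) (M := M) (V := V)).rTensor (MonoidAlgebra k M) t)) = coact (sl m t) := by
  induction t using TensorProduct.induction_on with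
  | zero => simp
  | add x y hx hy => simp only [map_add, hx, hy]
  | tmul w a =>
    rw [LinearMap.rTensor_tmul, sl_tmul, map_smul]
    generalize coact (k := k) (M := M) w = z
    induction z using TensorProduct.induction_on with
    | zero => simp
    | add x y hx hy => simp only [TensorProduct.add_tmul, map_add, hx, hy, smul_add]
    | tmul w' a' =>
      rw [TensorProduct.assoc_tmul, Phi, LinearMap.lTensor_tmul, LinearMap.comp_apply,
        LinearMap.lTensor_tmul, LinearEquiv.coe_coe, TensorProduct.rid_tmul, coordAt_apply,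
        TensorProduct.tmul_smul]

lemma Phi_right (m : M) (t : V ⊗[k] MonoidAlgebra k M) :
    Phi m (LinearMap.lTensor V (CoalgebraStruct.comul (R := k) (A := MonoidAlgebra k M)) t) =
      sl m t ⊗ₜ[k] MonoidAlgebra.single m 1 := by
  induction t using TensorProduct.induction_on with
  | zero => simp
  | add x y hx hy => simp only [map_add, hx, hy, TensorProduct.add_tmul]
  | tmul w a =>
    rw [LinearMap.lTensor_tmul, Phi, LinearMap.lTensor_tmul, LinearMap.comp_apply,
      LinearEquiv.coe_coe, sl_comul, sl_tmul, TensorProduct.tmul_smul, TensorProduct.smul_tmul']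

/-- the graded pieces are eigenspaces -/
lemma coact_pr (m : M) (v : V) :
    coact (pr (k := k) m v) = pr (k := k) m v ⊗ₜ[k] MonoidAlgebra.single m 1 := by
  have h := LinearMap.congr_fun
    (HopfRep.Comod.coassoc (k := k) (A := MonoidAlgebra k M) (V := V)) v
  simp only [LinearMap.comp_apply, LinearEquiv.coe_coe] at h
  have h2 := congrArg (Phi m) h
  rw [Phi_left, Phi_right] at h2
  exact h2

lemma pr_of_coact_eq [DecidableEq M] (m n : M) (u : V)
    (hu : coact (k := k) u = u ⊗ₜ[k] MonoidAlgebra.single n 1) :
    pr (k := k) m u = if n = m then u else 0 := by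
  rw [pr_apply, hu, sl_tmul, MonoidAlgebra.coeff_single, Finsupp.single_apply]
  split_ifs <;> simp

lemma pr_pr [DecidableEq M] (m n : M) (v : V) :
    pr (k := k) m (pr (k := k) n v) = if n = m then pr (k := k) n v else 0 :=
  pr_of_coact_eq m n _ (coact_pr n v)

/-- every vector is the finite sum of its graded components -/
lemma exists_sum_pr (v : V) :
    ∃ s : Finset M, (∀ m ∉ s, pr (k := k) m v = 0) ∧ ∑ m ∈ s, pr (k := k) m v = v := by
  obtain ⟨s, h1, h2⟩ := exists_sum_sl (coact (k := k) (M := M) v)
  refine ⟨s, h1, ?_⟩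
  have h := LinearMap.congr_fun
    (HopfRep.Comod.counit_comp (k := k) (A := MonoidAlgebra k M) (V := V)) v
  simp only [LinearMap.comp_apply, LinearMap.flip_apply, TensorProduct.mk_apply] at h
  simp only [pr_apply]
  rw [h2, h, TensorProduct.rid_tmul, one_smul]

lemma pr_mem_of_isSubcomod (W : Submodule k V)
    (hW : HopfRep.IsSubcomod (k := k) (A := MonoidAlgebra k M) W) (w : V) (hw : w ∈ W) (m : M) :
    pr (k := k) m w ∈ W := by
  obtain ⟨t, ht⟩ := hW w hw
  rw [pr_apply]
  change _ = coact (k := k) (M := M) w at ht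
  rw [← ht]
  clear ht
  induction t using TensorProduct.induction_on with
  | zero => simp
  | add x y hx hy => rw [map_add, map_add]; exact add_mem hx hy
  | tmul w' a =>
    rw [LinearMap.rTensor_tmul, sl_tmul]
    exact W.smul_mem _ w'.2

/-- the `m`-th eigenspace -/
noncomputable def eig (m : M) : Submodule k V :=
  HopfRep.eigenspace k (MonoidAlgebra k M) V (MonoidAlgebra.single m 1)

lemma mem_eig (m : M) (v : V) :
    v ∈ eig (k := k) m ↔ coact (k := k) v = v ⊗ₜ[k] MonoidAlgebra.single m 1 := Iff.rfl

lemma pr_mem_eig (m : M) (v : V) : pr (k := k) m v ∈ eig (k := k) m := coact_pr m v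

/-- a subcomodule of a comodule over a group algebra which is a direct summand as a module is a
direct summand as a comodule -/
theorem exists_isCompl_subcomod (W : Submodule k V)
    (hW : HopfRep.IsSubcomod (k := k) (A := MonoidAlgebra k M) W)
    (W' : Submodule k V) (hc : IsCompl W W') :
    ∃ W'' : Submodule k V, HopfRep.IsSubcomod (k := k) (A := MonoidAlgebra k M) W'' ∧
      IsCompl W W'' := by
  classical
  let π : V →ₗ[k] V := W.subtype ∘ₗ Submodule.projectionOnto W W' hc
  have hπW : ∀ v : V, π v ∈ W := fun v => (Submodule.projectionOnto W W' hc v).2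
  have hπid : ∀ w ∈ W, π w = w := by
    intro w hw
    show ((Submodule.projectionOnto W W' hc w : W) : V) = w
    rw [Submodule.projectionOnto_apply_of_mem_left hc hw]
  let P : M → Submodule k V := fun m => eig (k := k) m ⊓ LinearMap.ker (pr (k := k) m ∘ₗ π)
  have hP : ∀ m x, x ∈ P m ↔ x ∈ eig (k := k) m ∧ pr (k := k) m (π x) = 0 := by
    intro m x
    show x ∈ eig (k := k) m ⊓ LinearMap.ker (pr (k := k) m ∘ₗ π) ↔ _
    rw [Submodule.mem_inf, LinearMap.mem_ker, LinearMap.comp_apply]
  have key : ∀ v ∈ ⨆ m, P m, ∀ m, pr (k := k) m v ∈ P m := by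
    intro v hv m
    induction hv using Submodule.iSup_induction' with
    | mem n x hx =>
      rw [pr_of_coact_eq m n x ((hP n x).mp hx).1]
      split_ifs with h
      · subst h; exact hx
      · exact zero_mem _
    | zero => rw [map_zero]; exact zero_mem _
    | add x y _ _ hx hy => rw [map_add]; exact add_mem hx hy
  refine ⟨⨆ m, P m, ?_, ?_⟩
  · intro w hw
    induction hw using Submodule.iSup_induction' with
    | mem m x hx =>
      refine ⟨(⟨x, le_iSup P m hx⟩ : ↥(⨆ m, P m)) ⊗ₜ[k] MonoidAlgebra.single m 1, ?_⟩
      rw [LinearMap.rTensor_tmul]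
      exact (((hP m x).mp hx).1).symm
    | zero => exact ⟨0, by simp⟩
    | add x y _ _ hx hy =>
      obtain ⟨tx, htx⟩ := hx
      obtain ⟨ty, hty⟩ := hy
      exact ⟨tx + ty, by rw [map_add, map_add, htx, hty]⟩
  · constructor
    · rw [Submodule.disjoint_def]
      intro v hvW hvP
      obtain ⟨s, -, hs⟩ := exists_sum_pr (k := k) (M := M) v
      rw [← hs]
      refine Finset.sum_eq_zero fun m _ => ?_
      have h1 := ((hP m _).mp (key v hvP m)).2
      rw [hπid _ (pr_mem_of_isSubcomod W hW v hvW m), pr_pr, if_pos rfl] at h1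
      exact h1
    · rw [codisjoint_iff, eq_top_iff]
      rintro v -
      obtain ⟨s, -, hs⟩ := exists_sum_pr (k := k) (M := M) v
      rw [← hs]
      refine Submodule.sum_mem _ fun m _ => ?_
      have ha : pr (k := k) m (π (pr (k := k) m v)) ∈ W :=
        pr_mem_of_isSubcomod W hW _ (hπW _) m
      have hb : pr (k := k) m v - pr (k := k) m (π (pr (k := k) m v)) ∈ P m := by
        rw [hP]
        refine ⟨sub_mem (pr_mem_eig m v) (pr_mem_eig m _), ?_⟩
        rw [map_sub, map_sub, hπid _ ha, pr_pr, if_pos rfl, sub_self]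
      have : pr (k := k) m v = pr (k := k) m (π (pr (k := k) m v)) +
          (pr (k := k) m v - pr (k := k) m (π (pr (k := k) m v))) := by abel
      rw [this]
      exact add_mem (Submodule.mem_sup_left ha) (Submodule.mem_sup_right (le_iSup P m hb))

end Groth.Agent.H9.MT.Graded
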