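import Mathlib
import Groth.Prelude.Def_SGA3b
import Groth.Agent.Lib.Helper9.MT.BaseChange

/-!
# Rigidity of homomorphisms from groups of multiplicative type (helper9)
-/

set_option autoImplicit false
set_option linter.style.haveILetI false

universe u v w

open TensorProduct

namespace Groth.Agent.H9.MT

open Groth.Agent.H9 Groth.Agent.H9.CommGrp

section Core

variable {R : Type*} [CommRing R] {R' : Type*} [CommRing R'] [Algebra R R']
  {C : Type*} [AddCommGroup C] [Module R C] [Coalgebra R C]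
  {M : Type*} [Monoid M]
  (E : R' ⊗[R] C →ₗc[R'] MonoidAlgebra R' M)

/-- the key multiplicativity of the coefficient functionals -/
lemma coeff_eq_sum {ι : Type*} (c : C) (r : Coalgebra.Repr R c ι) (m : M) :
    (E ((1 : R') ⊗ₜ[R] c)).coeff m =
      ∑ i ∈ r.index, (E ((1 : R') ⊗ₜ[R] r.left i)).coeff m *
        (E ((1 : R') ⊗ₜ[R] r.right i)).coeff m := by
  have h1 := mul'_map_coordAt_comul m (E ((1 : R') ⊗ₜ[R] c))
  rw [← h1, ← CoalgHomClass.map_comp_comul_apply, comul_tmul_repr (1 : R') c r, map_sum,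
    map_sum, map_sum]
  refine Finset.sum_congr rfl fun i _ => ?_
  rw [TensorProduct.map_tmul, TensorProduct.map_tmul, LinearMap.mul'_apply, coordAt_apply,
    coordAt_apply]
  rfl

/-- coefficients in a nilpotent ideal vanish -/
theorem coeff_eq_zero_of_mem (I : Ideal R) (hI : IsNilpotent I) (m : M)
    (h : ∀ c : C, (E ((1 : R') ⊗ₜ[R] c)).coeff m ∈ I.map (algebraMap R R')) (c : C) :
    (E ((1 : R') ⊗ₜ[R] c)).coeff m = 0 := by
  have key : ∀ n : ℕ, ∀ c : C,
      (E ((1 : R') ⊗ₜ[R] c)).coeff m ∈ (I.map (algebraMap R R')) ^ (n + 1) := by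
    intro n
    induction n with
    | zero => intro c; rw [zero_add, pow_one]; exact h c
    | succ n ih =>
      intro c
      rw [coeff_eq_sum E c (Coalgebra.Repr.arbitrary R c) m, pow_succ]
      refine Ideal.sum_mem _ fun i _ => ?_
      exact Ideal.mul_mem_mul (ih _) (h _)
  obtain ⟨n, hn⟩ := hI
  have h2 := key n c
  rw [← Ideal.map_pow, pow_succ, hn] at h2
  simpa using h2

end Core

section Diag

variable {R : Type*} [CommRing R] (I : Ideal R) (hI : IsNilpotent I)
  {A : Type*} [CommRing A] [Bialgebra R A] {C : Type*} [CommRing C] [Bialgebra R C]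
  {R' : Type*} [CommRing R'] [Algebra R R'] {M : Type*} [Monoid M]
  (e : R' ⊗[R] A ≃ₐc[R'] MonoidAlgebra R' M) (φ : C →ₐc[R] A)

lemma one_tmul_algebraMap (r : R) :
    (1 : R') ⊗ₜ[R] (algebraMap R A r) = algebraMap R' (R' ⊗[R] A) (algebraMap R R' r) := by
  rw [Algebra.TensorProduct.algebraMap_apply, Algebra.algebraMap_self_apply,
    Algebra.algebraMap_eq_smul_one (A := A) r, Algebra.algebraMap_eq_smul_one (A := R') r,
    TensorProduct.tmul_smul, TensorProduct.smul_tmul']

lemma e_one_tmul_algebraMap (r : R) :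
    e ((1 : R') ⊗ₜ[R] (algebraMap R A r)) = MonoidAlgebra.single 1 (algebraMap R R' r) := by
  rw [one_tmul_algebraMap]
  have h := AlgHomClass.commutes (e : R' ⊗[R] A →ₐ[R'] MonoidAlgebra R' M) (algebraMap R R' r)
  rw [MonoidAlgebra.coe_algebraMap] at h
  exact h

include hI e in
/-- a homomorphism from a diagonalizable group which is trivial modulo a nilpotent ideal is
trivial -/
theorem one_tmul_eq_of_diag
    (h0 : ∀ c : C, φ c - algebraMap R A (CoalgebraStruct.counit (R := R) c) ∈
      I • (⊤ : Submodule R A)) (c : C) :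
    (1 : R') ⊗ₜ[R] (φ c) =
      (1 : R') ⊗ₜ[R] (algebraMap R A (CoalgebraStruct.counit (R := R) c)) := by
  classical
  let E : R' ⊗[R] C →ₐc[R'] MonoidAlgebra R' M :=
    (e : R' ⊗[R] A →ₐc[R'] MonoidAlgebra R' M).comp
      (Bialgebra.TensorProduct.map (BialgHom.id R' R') φ)
  have hE : ∀ c : C, E.toCoalgHom ((1 : R') ⊗ₜ[R] c) = e ((1 : R') ⊗ₜ[R] φ c) := by
    intro c
    show e (Bialgebra.TensorProduct.map (BialgHom.id R' R') φ ((1 : R') ⊗ₜ[R] c)) = _
    rw [Bialgebra.TensorProduct.map_tmul]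
    rfl
  have hmem : ∀ x ∈ I • (⊤ : Submodule R A), ∀ m : M,
      (e ((1 : R') ⊗ₜ[R] x)).coeff m ∈ I.map (algebraMap R R') := by
    intro x hx m
    induction hx using Submodule.smul_induction_on' with
    | smul r hr a _ =>
      have h1 : (1 : R') ⊗ₜ[R] (r • a) = (algebraMap R R' r) • ((1 : R') ⊗ₜ[R] a) := by
        rw [TensorProduct.tmul_smul, TensorProduct.smul_tmul', TensorProduct.smul_tmul',
          Algebra.algebraMap_eq_smul_one, smul_eq_mul, mul_one]
      rw [h1, map_smul, MonoidAlgebra.coeff_smul, Finsupp.smul_apply, smul_eq_mul]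
      exact Ideal.mul_mem_right _ _ (Ideal.mem_map_of_mem _ hr)
    | add x _ y _ hx hy =>
      rw [TensorProduct.tmul_add, map_add, MonoidAlgebra.coeff_add, Finsupp.add_apply]
      exact Ideal.add_mem _ hx hy
  have hsplit : ∀ c : C, e ((1 : R') ⊗ₜ[R] φ c) =
      e ((1 : R') ⊗ₜ[R] (φ c - algebraMap R A (CoalgebraStruct.counit (R := R) c))) +
        MonoidAlgebra.single 1 (algebraMap R R' (CoalgebraStruct.counit (R := R) c)) := by
    intro c
    rw [← e_one_tmul_algebraMap e, ← map_add, ← TensorProduct.tmul_add, sub_add_cancel]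
  have hzero : ∀ m : M, m ≠ 1 → ∀ c : C, (e ((1 : R') ⊗ₜ[R] φ c)).coeff m = 0 := by
    intro m hm c
    rw [← hE]
    apply coeff_eq_zero_of_mem E.toCoalgHom I hI m
    intro c
    rw [hE, hsplit, MonoidAlgebra.coeff_add, Finsupp.add_apply, MonoidAlgebra.coeff_single,
      Finsupp.single_apply, if_neg (Ne.symm hm), add_zero]
    exact hmem _ (h0 c) m
  have hform : e ((1 : R') ⊗ₜ[R] φ c) =
      MonoidAlgebra.single 1 ((e ((1 : R') ⊗ₜ[R] φ c)).coeff 1) := by
    apply MonoidAlgebra.coeff_injective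
    ext m
    rw [MonoidAlgebra.coeff_single, Finsupp.single_apply]
    by_cases hm : m = 1
    · subst hm; rw [if_pos rfl]
    · rw [if_neg (Ne.symm hm)]; exact hzero m hm c
  have hcounit : CoalgebraStruct.counit (R := R') (e ((1 : R') ⊗ₜ[R] φ c)) =
      algebraMap R R' (CoalgebraStruct.counit (R := R) c) := by
    rw [CoalgHomClass.counit_comp_apply, TensorProduct.counit_tmul,
      CoalgHomClass.counit_comp_apply, CommSemiring.counit_apply,
      Algebra.algebraMap_eq_smul_one]
  rw [hform, MonoidAlgebra.counit_single, CommSemiring.counit_apply] at hcounit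
  apply EquivLike.injective e
  rw [hform, hcounit, e_one_tmul_algebraMap]

end Diag

section Main

variable (R : Type u) [CommRing R] (I : Ideal R)
  (A : Type u) [CommRing A] [HopfAlgebra R A]

theorem mem_smul_top_of_tmul_eq (a b : A)
    (h : (1 : R ⧸ I) ⊗ₜ[R] a = (1 : R ⧸ I) ⊗ₜ[R] b) : a - b ∈ I • (⊤ : Submodule R A) := by
  have h1 := congrArg (TensorProduct.quotTensorEquivQuotSMul A I) h
  rw [TensorProduct.quotTensorEquivQuotSMul_mk_one_tmul,
    TensorProduct.quotTensorEquivQuotSMul_mk_one_tmul] at h1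
  exact (Submodule.Quotient.eq _).mp h1

variable {R A}

/-- an element vanishing after all the base changes occurring in the definition of
"multiplicative type" vanishes -/
theorem eq_zero_of_isMultType_cover {s : Set R} (hs : Ideal.span s = ⊤) (d : A)
    (h : ∀ f ∈ s, (1 : Localization.Away f) ⊗ₜ[R] d = 0) : d = 0 := by
  apply Module.eq_zero_of_isLocalized_span s hs
    (fun r => Localization.Away r.1 ⊗[R] A)
    (fun r => TensorProduct.mk R (Localization.Away r.1) A 1)
  rintro ⟨f, hf⟩
  exact h f hf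

variable {I}

/-- rigidity: a homomorphism from a group of multiplicative type which is trivial modulo a
nilpotent ideal is trivial -/
theorem eq_counit_of_isMultType (hI : IsNilpotent I) (hH : SGA3b.IsMultType R A)
    {C : Type u} [CommRing C] [HopfAlgebra R C] (φ : C →ₐc[R] A)
    (h0 : ∀ c : C, (1 : R ⧸ I) ⊗ₜ[R] (φ c) =
      (1 : R ⧸ I) ⊗ₜ[R] (algebraMap R A (CoalgebraStruct.counit (R := R) c))) (c : C) :
    φ c = algebraMap R A (CoalgebraStruct.counit (R := R) c) := by
  rw [← sub_eq_zero]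
  obtain ⟨s, hs, hmt⟩ := hH
  apply eq_zero_of_isMultType_cover hs
  intro f hf
  obtain ⟨R', _, _, hff, M, _, ⟨e⟩⟩ := hmt f hf
  letI : Algebra R R' := Algebra.compHom R' (algebraMap R (Localization.Away f))
  haveI : IsScalarTower R (Localization.Away f) R' := IsScalarTower.of_algebraMap_eq fun _ => rfl
  let e' : R' ⊗[R] A ≃ₐc[R'] MonoidAlgebra R' M :=
    (cancelBC R (Localization.Away f) R' A).symm.trans e
  have h1 := one_tmul_eq_of_diag I hI e' φ
    (fun c => mem_smul_top_of_tmul_eq R I A _ _ (h0 c)) c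
  have h2 := congrArg (cancelBC R (Localization.Away f) R' A).symm h1
  rw [cancelBC_symm_tmul, cancelBC_symm_tmul] at h2
  apply (Module.FaithfullyFlat.one_tmul_eq_zero_iff (Localization.Away f)
    (Localization.Away f ⊗[R] A) (A := R') _).mp
  rw [TensorProduct.tmul_sub, TensorProduct.tmul_sub, h2, sub_self]

end Main

end Groth.Agent.H9.MT
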