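import Mathlib
import Groth.Prelude.Def_SGA3b
import Groth.Agent.Lib.Helper9.MT.Rigid
import Groth.Agent.Lib.Helper9.HopfAntipode

/-!
# Rigidity: two homomorphisms to a commutative group agreeing modulo a nilpotent ideal (helper9)
-/

set_option autoImplicit false
set_option linter.style.haveILetI false

universe u v w

open TensorProduct WithConv

namespace Groth.Agent.H9.MT

section Antipode

variable {R : Type*} [CommRing R] {C : Type*} [CommRing C] [HopfAlgebra R C]
  [Coalgebra.IsCocomm R C]

/-- the antipode of a commutative cocommutative Hopf algebra, as a bialgebra map -/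
noncomputable def antipodeBialgHom : C →ₐc[R] C :=
  BialgHom.ofAlgHom (HopfAlgebra.antipodeAlgHom R C)
    (by
      apply AlgHom.ext
      intro c
      exact HopfAlgebra.counit_antipode c)
    (by
      apply AlgHom.ext
      intro c
      show TensorProduct.map (HopfAlgebra.antipode R) (HopfAlgebra.antipode R)
        (CoalgebraStruct.comul (R := R) c) =
          CoalgebraStruct.comul (R := R) (HopfAlgebra.antipode R c)
      rw [Groth.Agent.H9.Hopf.comul_antipode, Coalgebra.comm_comul])

lemma antipodeBialgHom_apply (c : C) :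
    (antipodeBialgHom : C →ₐc[R] C) c = HopfAlgebra.antipode R c := rfl

end Antipode

section Main

variable {R : Type u} [CommRing R] {I : Ideal R}
  {A : Type u} [CommRing A] [HopfAlgebra R A]
  {C : Type u} [CommRing C] [HopfAlgebra R C] [Coalgebra.IsCocomm R C]

/-- rigidity: two homomorphisms from a group of multiplicative type to a commutative group which
agree modulo a nilpotent ideal agree -/
theorem eq_of_isMultType (hI : IsNilpotent I) (hH : SGA3b.IsMultType R A) (φ ψ : C →ₐc[R] A)
    (h0 : ∀ c : C, (1 : R ⧸ I) ⊗ₜ[R] (φ c) = (1 : R ⧸ I) ⊗ₜ[R] (ψ c)) : φ = ψ := by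
  let χ : C →ₐc[R] A := (toConv φ * toConv (ψ.comp antipodeBialgHom)).ofConv
  have hχ : ∀ c : C, χ c = ∑ i ∈ (Coalgebra.Repr.arbitrary R c).index,
      φ ((Coalgebra.Repr.arbitrary R c).left i) *
        ψ (HopfAlgebra.antipode R ((Coalgebra.Repr.arbitrary R c).right i)) := by
    intro c
    exact (Coalgebra.Repr.arbitrary R c).convMul_apply (toConv φ.toLinearMap)
      (toConv (ψ.comp antipodeBialgHom).toLinearMap)
  let ι : A →ₐ[R] (R ⧸ I) ⊗[R] A := Algebra.TensorProduct.includeRight
  have hι : ∀ a : A, ι a = (1 : R ⧸ I) ⊗ₜ[R] a := fun a => rfl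
  have h1 : ∀ c : C, (1 : R ⧸ I) ⊗ₜ[R] (χ c) =
      (1 : R ⧸ I) ⊗ₜ[R] (algebraMap R A (CoalgebraStruct.counit (R := R) c)) := by
    intro c
    rw [← hι, ← hι, hχ, map_sum]
    have h2 : ∀ i ∈ (Coalgebra.Repr.arbitrary R c).index,
        ι (φ ((Coalgebra.Repr.arbitrary R c).left i) *
          ψ (HopfAlgebra.antipode R ((Coalgebra.Repr.arbitrary R c).right i))) =
        ι (ψ ((Coalgebra.Repr.arbitrary R c).left i *
          HopfAlgebra.antipode R ((Coalgebra.Repr.arbitrary R c).right i))) := by
      intro i _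
      rw [map_mul, map_mul, map_mul, hι (φ _), h0, ← hι]
    rw [Finset.sum_congr rfl h2, ← map_sum, ← map_sum,
      HopfAlgebra.sum_mul_antipode_eq_algebraMap_counit]
    congr 1
    exact AlgHomClass.commutes ψ _
  have h3 := eq_counit_of_isMultType hI hH χ h1
  have h4 : toConv (φ : C →ₐ[R] A) * (toConv (ψ : C →ₐ[R] A))⁻¹ = 1 := by
    apply WithConv.ofConv_injective
    apply AlgHom.ext
    intro c
    exact h3 c
  have h5 := mul_inv_eq_one.mp h4
  apply BialgHom.ext
  intro c
  exact congrArg (fun f : WithConv (C →ₐ[R] A) => f.ofConv c) h5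

end Main

end Groth.Agent.H9.MT
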