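import Mathlib
import Groth.Agent.Lib.Helper9.MT.Rigid2

/-!
# Rigidity with nil ideals, universe-polymorphic form (helper9)
-/

set_option autoImplicit false
set_option linter.style.haveILetI false

universe u v w w' w''

open TensorProduct WithConv

namespace Groth.Agent.H9.MT

/-- universe-polymorphic: diagonalizable after a faithfully flat base change -/
def FFDiag (R : Type u) [CommRing R] (A : Type v) [CommRing A] [Bialgebra R A] : Prop :=
  ∃ (R' : Type w) (_ : CommRing R') (_ : Algebra R R') (_ : Module.FaithfullyFlat R R')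
    (M : Type w') (_ : Monoid M), Nonempty (R' ⊗[R] A ≃ₐc[R'] MonoidAlgebra R' M)

section SmulTop

variable {R : Type*} [CommRing R] (I : Ideal R) {A : Type*} [CommRing A] [Algebra R A]

lemma mul_mem_smul_top {x : A} (hx : x ∈ I • (⊤ : Submodule R A)) (a : A) :
    x * a ∈ I • (⊤ : Submodule R A) := by
  induction hx using Submodule.smul_induction_on' with
  | smul r hr a' _ =>
    rw [smul_mul_assoc]
    exact Submodule.smul_mem_smul hr Submodule.mem_top
  | add x _ y _ hx hy => rw [add_mul]; exact add_mem hx hy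

lemma mul_mem_smul_top' {x : A} (hx : x ∈ I • (⊤ : Submodule R A)) (a : A) :
    a * x ∈ I • (⊤ : Submodule R A) := by
  rw [mul_comm]; exact mul_mem_smul_top I hx a

lemma exists_fg_of_mem_smul_top {x : A} (hx : x ∈ I • (⊤ : Submodule R A)) :
    ∃ I₀ : Ideal R, I₀ ≤ I ∧ I₀.FG ∧ x ∈ I₀ • (⊤ : Submodule R A) := by
  induction hx using Submodule.smul_induction_on' with
  | smul r hr a _ =>
    refine ⟨Ideal.span {r}, (Ideal.span_singleton_le_iff_mem I).mpr hr, ⟨{r}, by simp⟩, ?_⟩
    exact Submodule.smul_mem_smul (Ideal.mem_span_singleton_self r) Submodule.mem_top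
  | add x _ y _ hx hy =>
    obtain ⟨I₁, h1, h1', h1''⟩ := hx
    obtain ⟨I₂, h2, h2', h2''⟩ := hy
    refine ⟨I₁ ⊔ I₂, sup_le h1 h2, Submodule.FG.sup h1' h2', ?_⟩
    exact add_mem (Submodule.smul_mono_left le_sup_left h1'')
      (Submodule.smul_mono_left le_sup_right h2'')

end SmulTop

section Main

variable {R : Type u} [CommRing R] {I : Ideal R}
  {A : Type v} [CommRing A] [HopfAlgebra R A]
  {C : Type w''} [CommRing C] [HopfAlgebra R C]

theorem eq_counit_of_ffDiag (hI : IsNilpotent I) (hA : FFDiag.{u, v, w, w'} R A)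
    (φ : C →ₐc[R] A)
    (h0 : ∀ c : C, φ c - algebraMap R A (CoalgebraStruct.counit (R := R) c) ∈
      I • (⊤ : Submodule R A)) (c : C) :
    φ c = algebraMap R A (CoalgebraStruct.counit (R := R) c) := by
  obtain ⟨R', _, _, _, M, _, ⟨e⟩⟩ := hA
  have h1 := one_tmul_eq_of_diag I hI e φ h0 c
  rw [← sub_eq_zero]
  apply (Module.FaithfullyFlat.one_tmul_eq_zero_iff R A (A := R') _).mp
  rw [TensorProduct.tmul_sub, h1, sub_self]

variable [Coalgebra.IsCocomm R C]

theorem eq_of_ffDiag (hI : IsNilpotent I) (hA : FFDiag.{u, v, w, w'} R A) (φ ψ : C →ₐc[R] A)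
    (h0 : ∀ c : C, φ c - ψ c ∈ I • (⊤ : Submodule R A)) : φ = ψ := by
  let χ : C →ₐc[R] A := (toConv φ * toConv (ψ.comp antipodeBialgHom)).ofConv
  have hχ : ∀ c : C, χ c = ∑ i ∈ (Coalgebra.Repr.arbitrary R c).index,
      φ ((Coalgebra.Repr.arbitrary R c).left i) *
        ψ (HopfAlgebra.antipode R ((Coalgebra.Repr.arbitrary R c).right i)) := by
    intro c
    exact (Coalgebra.Repr.arbitrary R c).convMul_apply (toConv φ.toLinearMap)
      (toConv (ψ.comp antipodeBialgHom).toLinearMap)
  have h1 : ∀ c : C, χ c - algebraMap R A (CoalgebraStruct.counit (R := R) c) ∈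
      I • (⊤ : Submodule R A) := by
    intro c
    have h2 : algebraMap R A (CoalgebraStruct.counit (R := R) c) =
        ∑ i ∈ (Coalgebra.Repr.arbitrary R c).index,
          ψ ((Coalgebra.Repr.arbitrary R c).left i) *
            ψ (HopfAlgebra.antipode R ((Coalgebra.Repr.arbitrary R c).right i)) := by
      have h3 := congrArg ψ
        (HopfAlgebra.sum_mul_antipode_eq_algebraMap_counit (Coalgebra.Repr.arbitrary R c))
      rw [AlgHomClass.commutes, map_sum] at h3
      rw [← h3]
      refine Finset.sum_congr rfl fun i _ => ?_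
      rw [map_mul]
    rw [hχ, h2, ← Finset.sum_sub_distrib]
    refine Submodule.sum_mem _ fun i _ => ?_
    rw [← sub_mul]
    exact mul_mem_smul_top I (h0 _) _
  have h3 := eq_counit_of_ffDiag hI hA χ h1
  have h4 : toConv (φ : C →ₐ[R] A) * (toConv (ψ : C →ₐ[R] A))⁻¹ = 1 := by
    apply WithConv.ofConv_injective
    apply AlgHom.ext
    intro c
    exact h3 c
  have h5 := mul_inv_eq_one.mp h4
  apply BialgHom.ext
  intro c
  exact congrArg (fun f : WithConv (C →ₐ[R] A) => f.ofConv c) h5

/-- rigidity with a nil ideal, for a finitely generated source algebra -/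
theorem eq_of_ffDiag_nil (hI : ∀ x ∈ I, IsNilpotent x) (hA : FFDiag.{u, v, w, w'} R A)
    (φ ψ : C →ₐc[R] A) (S : Set C) (hS : S.Finite) (hgen : Algebra.adjoin R S = ⊤)
    (h0 : ∀ c ∈ S, φ c - ψ c ∈ I • (⊤ : Submodule R A)) : φ = ψ := by
  have hex : ∃ I₀ : Ideal R, I₀ ≤ I ∧ I₀.FG ∧
      ∀ c ∈ S, φ c - ψ c ∈ I₀ • (⊤ : Submodule R A) := by
    clear hgen
    induction S, hS using Set.Finite.induction_on with
    | empty => exact ⟨⊥, bot_le, Submodule.fg_bot, fun c hc => absurd hc (Set.notMem_empty c)⟩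
    | @insert a S _ _ ih =>
      obtain ⟨I₁, h1, h1', h1''⟩ := ih (fun c hc => h0 c (Set.mem_insert_of_mem a hc))
      obtain ⟨I₂, h2, h2', h2''⟩ := exists_fg_of_mem_smul_top I (h0 a (Set.mem_insert a S))
      refine ⟨I₁ ⊔ I₂, sup_le h1 h2, Submodule.FG.sup h1' h2', ?_⟩
      intro c hc
      rcases Set.mem_insert_iff.mp hc with rfl | hc
      · exact Submodule.smul_mono_left le_sup_right h2''
      · exact Submodule.smul_mono_left le_sup_left (h1'' c hc)
  obtain ⟨I₀, hle, hfg, hS0⟩ := hex
  have hnil : IsNilpotent I₀ := by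
    rw [hfg.isNilpotent_iff_le_nilradical]
    intro x hx
    exact mem_nilradical.mpr (hI x (hle hx))
  apply eq_of_ffDiag hnil hA
  intro c
  have hc : c ∈ Algebra.adjoin R S := by rw [hgen]; trivial
  induction hc using Algebra.adjoin_induction with
  | mem x hx => exact hS0 x hx
  | algebraMap r =>
    rw [AlgHomClass.commutes, AlgHomClass.commutes, sub_self]
    exact zero_mem _
  | add x y _ _ hx hy =>
    rw [map_add, map_add, add_sub_add_comm]
    exact add_mem hx hy
  | mul x y _ _ hx hy =>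
    have : φ (x * y) - ψ (x * y) = φ x * (φ y - ψ y) + (φ x - ψ x) * ψ y := by
      rw [map_mul, map_mul]; ring
    rw [this]
    exact add_mem (mul_mem_smul_top' I₀ hy _) (mul_mem_smul_top I₀ hx _)

end Main

end Groth.Agent.H9.MT
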