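import Mathlib
import Groth.Prelude.Def_SGA3b
import Groth.Prelude.Def_HopfRep
import Groth.Agent.Lib.Helper9.MT.BaseChange
import Groth.Agent.Lib.Helper9.CocommDiag.Main
import Groth.Agent.Lib.Helper9.CocommDiag.BaseChange

/-!
# Groups of multiplicative type over a field: intrinsic characterisation, quotients (helper9)
-/

set_option autoImplicit false
set_option linter.style.haveILetI false

universe u v w

open TensorProduct

namespace Groth.Agent.H9.MT

open Groth.Agent.H9 Groth.Agent.H9.CocommDiag Groth.Agent.H9.CommGrp

section Surj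

variable {K : Type*} [Field K] {H H' : Type*} [CommRing H] [Bialgebra K H] [CommRing H']
  [Bialgebra K H']

/-- a quotient of a diagonalizable group is diagonalizable -/
theorem isDiagonalizable_of_surjective (π : H →ₐc[K] H') (hπ : Function.Surjective π)
    (h : HopfRep.IsDiagonalizable K H) : HopfRep.IsDiagonalizable K H' := by
  unfold HopfRep.IsDiagonalizable at h ⊢
  rw [eq_top_iff]
  rintro y -
  obtain ⟨x, rfl⟩ := hπ y
  have hx : x ∈ Submodule.span K {a : H | IsGroupLikeElem K a} := by rw [h]; trivial
  induction hx using Submodule.span_induction with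
  | mem a ha => exact Submodule.subset_span (IsGroupLikeElem.map π ha)
  | zero => rw [map_zero]; exact zero_mem _
  | add a b _ _ ha hb => rw [map_add]; exact add_mem ha hb
  | smul c a _ ha => rw [map_smul]; exact Submodule.smul_mem _ _ ha

end Surj

section Cocomm

variable {R : Type*} [CommRing R] {H H' : Type*} [CommRing H] [Bialgebra R H] [CommRing H']
  [Bialgebra R H']

/-- cocommutativity transports along bialgebra isomorphisms -/
theorem isCocomm_of_bialgEquiv (e : H ≃ₐc[R] H') [Coalgebra.IsCocomm R H'] :
    Coalgebra.IsCocomm R H := by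
  constructor
  apply LinearMap.ext
  intro x
  rw [LinearMap.comp_apply]
  have hinj : Function.Injective (TensorProduct.map (e : H →ₗ[R] H') (e : H →ₗ[R] H')) := by
    have : (TensorProduct.map (e : H →ₗ[R] H') (e : H →ₗ[R] H')) =
        (TensorProduct.congr (e : H ≃ₗ[R] H') (e : H ≃ₗ[R] H')).toLinearMap := by
      apply TensorProduct.ext'
      intro a b
      rfl
    rw [this]
    exact (TensorProduct.congr (e : H ≃ₗ[R] H') (e : H ≃ₗ[R] H')).injective
  apply hinj
  have h1 : TensorProduct.map (e : H →ₗ[R] H') (e : H →ₗ[R] H')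
      (CoalgebraStruct.comul (R := R) x) = CoalgebraStruct.comul (R := R) (e x) :=
    CoalgHomClass.map_comp_comul_apply e x
  have h2 : ∀ z : H ⊗[R] H, TensorProduct.map (e : H →ₗ[R] H') (e : H →ₗ[R] H')
      (TensorProduct.comm R H H z) = TensorProduct.comm R H' H'
        (TensorProduct.map (e : H →ₗ[R] H') (e : H →ₗ[R] H') z) := by
    intro z
    induction z using TensorProduct.induction_on with
    | zero => simp
    | tmul a b => rfl
    | add a b ha hb => simp only [map_add, ha, hb]
  show TensorProduct.map (e : H →ₗ[R] H') (e : H →ₗ[R] H')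
    (TensorProduct.comm R H H (CoalgebraStruct.comul (R := R) x)) = _
  rw [h2, h1]
  exact Coalgebra.comm_comul R (e x)

end Cocomm

section Descent

variable {k : Type*} [CommRing k] (K : Type*) [CommRing K] [Algebra k K]
  [Module.FaithfullyFlat k K] {A : Type*} [CommRing A] [Bialgebra k A]

/-- cocommutativity descends along faithfully flat ring maps -/
theorem isCocomm_of_baseChange' (h : Coalgebra.IsCocomm K (K ⊗[k] A)) :
    Coalgebra.IsCocomm k A := by
  constructor
  apply LinearMap.ext
  intro a
  rw [LinearMap.comp_apply]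
  have hinj : ∀ z z' : A ⊗[k] A, (1 : K) ⊗ₜ[k] z = (1 : K) ⊗ₜ[k] z' → z = z' := by
    intro z z' hz
    rw [← sub_eq_zero, ← TensorProduct.tmul_sub,
      Module.FaithfullyFlat.one_tmul_eq_zero_iff] at hz
    exact sub_eq_zero.mp hz
  apply hinj
  apply (TensorProduct.AlgebraTensorModule.distribBaseChange k K A A).injective
  have h1 := LinearMap.congr_fun h.comm_comp_comul ((1 : K) ⊗ₜ[k] a)
  rw [LinearMap.comp_apply, comul_baseChange', LinearMap.lTensor_tmul] at h1
  rw [← h1]
  show _ = (TensorProduct.comm K (K ⊗[k] A) (K ⊗[k] A)) _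
  generalize CoalgebraStruct.comul (R := k) a = z
  induction z using TensorProduct.induction_on with
  | zero => simp
  | tmul a b =>
    rw [LinearEquiv.coe_coe, TensorProduct.comm_tmul,
      TensorProduct.AlgebraTensorModule.distribBaseChange_tmul,
      TensorProduct.AlgebraTensorModule.distribBaseChange_tmul, TensorProduct.comm_tmul]
  | add x y hx hy =>
    simp only [map_add, TensorProduct.tmul_add] at hx hy ⊢
    rw [hx, hy]

end Descent

section Field

variable {k : Type u} [Field k] {A : Type u} [CommRing A] [HopfAlgebra k A]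

/-- a group of multiplicative type is commutative -/
theorem isCocomm_of_isMultTypeConst (h : SGA3b.IsMultTypeConst k A) : Coalgebra.IsCocomm k A := by
  obtain ⟨R', _, _, hff, M, _, ⟨e⟩⟩ := h
  haveI : Coalgebra.IsCocomm R' (R' ⊗[k] A) := isCocomm_of_bialgEquiv e
  exact isCocomm_of_baseChange' R' inferInstance

/-- intrinsic characterisation of groups of multiplicative type over a field -/
theorem isMultTypeConst_of_no_primitive [Coalgebra.IsCocomm k A]
    (hnp : ∀ f : A, CoalgebraStruct.comul (R := k) f = f ⊗ₜ[k] 1 + 1 ⊗ₜ[k] f → f = 0) :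
    SGA3b.IsMultTypeConst k A := by
  have hnpK := no_primitive_baseChange (AlgebraicClosure k) hnp
  have hdiag : HopfRep.IsDiagonalizable (AlgebraicClosure k) (AlgebraicClosure k ⊗[k] A) :=
    isDiagonalizable_of_no_primitive hnpK
  exact ⟨AlgebraicClosure k, inferInstance, inferInstance, inferInstance,
    isDiag_of_isDiagonalizable hdiag⟩

theorem isMultTypeConst_iff : SGA3b.IsMultTypeConst k A ↔
    Coalgebra.IsCocomm k A ∧
      ∀ f : A, CoalgebraStruct.comul (R := k) f = f ⊗ₜ[k] 1 + 1 ⊗ₜ[k] f → f = 0 :=
  ⟨fun h => ⟨isCocomm_of_isMultTypeConst h, no_primitive_of_isMultTypeConst h⟩,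
    fun ⟨h1, h2⟩ => by
      haveI := h1
      exact isMultTypeConst_of_no_primitive h2⟩

/-- a group of multiplicative type becomes diagonalizable over the algebraic closure -/
theorem isDiagonalizable_algebraicClosure (h : SGA3b.IsMultTypeConst k A) :
    HopfRep.IsDiagonalizable (AlgebraicClosure k) (AlgebraicClosure k ⊗[k] A) := by
  haveI := isCocomm_of_isMultTypeConst h
  exact isDiagonalizable_of_no_primitive
    (no_primitive_baseChange (AlgebraicClosure k) (no_primitive_of_isMultTypeConst h))

/-- closed subgroups of groups of multiplicative type are of multiplicative type -/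
theorem isMultTypeConst_quotient (h : SGA3b.IsMultTypeConst k A) (J : Ideal A)
    [J.IsHopfIdeal k] : SGA3b.IsMultTypeConst k (A ⧸ J) := by
  have hdiag := isDiagonalizable_algebraicClosure h
  let π : AlgebraicClosure k ⊗[k] A →ₐc[AlgebraicClosure k] AlgebraicClosure k ⊗[k] (A ⧸ J) :=
    Bialgebra.TensorProduct.map (BialgHom.id (AlgebraicClosure k) (AlgebraicClosure k))
      (Bialgebra.Quotient.mkBialgHom J)
  have hπ : Function.Surjective π := by
    intro y
    induction y using TensorProduct.induction_on with
    | zero => exact ⟨0, map_zero _⟩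
    | tmul c b =>
      obtain ⟨a, rfl⟩ := Ideal.Quotient.mk_surjective b
      exact ⟨c ⊗ₜ[k] a, Bialgebra.TensorProduct.map_tmul _ _ _ _⟩
    | add x y hx hy =>
      obtain ⟨x', rfl⟩ := hx
      obtain ⟨y', rfl⟩ := hy
      exact ⟨x' + y', map_add _ _ _⟩
  exact ⟨AlgebraicClosure k, inferInstance, inferInstance, inferInstance,
    isDiag_of_isDiagonalizable (isDiagonalizable_of_surjective π hπ hdiag)⟩

end Field

end Groth.Agent.H9.MT
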