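import Mathlib
import Groth.Prelude.Def_SGA3b
import Groth.Agent.Lib.Helper9.MT.SepClosed

/-!
# Groups of multiplicative type of finite type over a field are isotrivial (helper9)
-/

set_option autoImplicit false
set_option linter.style.haveILetI false

universe u u' v v' w w'

open TensorProduct

namespace Groth.Agent.H9.MT

open Groth.Agent.H9 Groth.Agent.H9.CocommDiag Groth.Agent.H9.CommGrp

section GLDescent

variable {k : Type*} {K : Type*} [Field k] [Field K] [Algebra k K]
  {H : Type*} [CommRing H] [Bialgebra k H]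

/-- being group-like descends along field extensions -/
theorem isGroupLikeElem_of_one_tmul (x : H) (h : IsGroupLikeElem K ((1 : K) ⊗ₜ[k] x)) :
    IsGroupLikeElem k x := by
  constructor
  · have h1 := h.counit_eq_one
    rw [TensorProduct.counit_tmul, CommSemiring.counit_apply,
      ← Algebra.algebraMap_eq_smul_one] at h1
    apply FaithfulSMul.algebraMap_injective k K
    rw [h1, map_one]
  · have h1 := h.comul_eq_tmul_self
    rw [comul_baseChange', LinearMap.lTensor_tmul] at h1
    have h2 : ((1 : K) ⊗ₜ[k] x) ⊗ₜ[K] ((1 : K) ⊗ₜ[k] x) =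
        TensorProduct.AlgebraTensorModule.distribBaseChange k K H H
          ((1 : K) ⊗ₜ[k] (x ⊗ₜ[k] x)) := by
      rw [TensorProduct.AlgebraTensorModule.distribBaseChange_tmul]
    rw [h2] at h1
    have h3 := (TensorProduct.AlgebraTensorModule.distribBaseChange k K H H).injective h1
    rw [← sub_eq_zero, ← TensorProduct.tmul_sub,
      Module.FaithfullyFlat.one_tmul_eq_zero_iff] at h3
    exact sub_eq_zero.mp h3

end GLDescent

section Span

variable {k : Type*} [Field k] {H : Type*} [CommRing H] [Bialgebra k H]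

/-- the span of the group-like elements is a subalgebra -/
theorem span_groupLike_eq_adjoin :
    Submodule.span k {a : H | IsGroupLikeElem k a} =
      Subalgebra.toSubmodule (Algebra.adjoin k {a : H | IsGroupLikeElem k a}) := by
  rw [Algebra.adjoin_eq_span]
  congr 1
  let S : Submonoid H :=
    { carrier := {a : H | IsGroupLikeElem k a}
      one_mem' := IsGroupLikeElem.one
      mul_mem' := fun ha hb => IsGroupLikeElem.mul ha hb }
  show (S : Set H) = ((Submonoid.closure (S : Set H) : Submonoid H) : Set H)
  rw [Submonoid.closure_eq]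

end Span

section Finite

variable {k : Type*} {L : Type*} [Field k] [Field L] [Algebra k L]
  {A : Type*} [CommRing A] [Algebra k A]

/-- every element of `L ⊗ A` is defined over a finitely generated subextension -/
theorem exists_finset_forall_mem_range (g : L ⊗[k] A) :
    ∃ s : Finset L, ∀ F : IntermediateField k L, (s : Set L) ⊆ F →
      g ∈ LinearMap.range (LinearMap.rTensor A ((IsScalarTower.toAlgHom k F L).toLinearMap)) := by
  classical
  induction g using TensorProduct.induction_on with
  | zero => exact ⟨∅, fun F _ => zero_mem _⟩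
  | tmul d a =>
    refine ⟨{d}, fun F hF => ?_⟩
    have hd : d ∈ F := hF (by simp)
    exact ⟨(⟨d, hd⟩ : F) ⊗ₜ[k] a, rfl⟩
  | add x y hx hy =>
    obtain ⟨s₁, h1⟩ := hx
    obtain ⟨s₂, h2⟩ := hy
    refine ⟨s₁ ∪ s₂, fun F hF => ?_⟩
    rw [Finset.coe_union] at hF
    exact add_mem (h1 F (Set.subset_union_left.trans hF)) (h2 F (Set.subset_union_right.trans hF))

end Finite

section SepClosedField

variable {K : Type u} [Field K] [IsSepClosed K] {H : Type v} [CommRing H] [HopfAlgebra K H]
  [Coalgebra.IsCocomm K H]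

/-- over a separably closed field, a commutative group without additive characters is
diagonalizable -/
theorem isDiagonalizable_of_no_primitive_sepClosed
    (hnp : ∀ f : H, CoalgebraStruct.comul (R := K) f = f ⊗ₜ[K] 1 + 1 ⊗ₜ[K] f → f = 0) :
    HopfRep.IsDiagonalizable K H := by
  have hΩ : HopfRep.IsDiagonalizable (AlgebraicClosure K) (AlgebraicClosure K ⊗[K] H) :=
    isDiagonalizable_of_no_primitive (no_primitive_baseChange (AlgebraicClosure K) hnp)
  exact isDiagonalizable_of_baseChange hΩ

end SepClosedField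

section Abstract

variable {k : Type*} {F : Type*} {L : Type*} [Field k] [Field F] [Field L] [Algebra k F]
  [Algebra k L] [Algebra F L] [IsScalarTower k F L]
  {A : Type*} [CommRing A] [HopfAlgebra k A]

lemma cancelBC_one_tmul (x : F ⊗[k] A) :
    cancelBC k F L A ((1 : L) ⊗ₜ[F] x) =
      LinearMap.rTensor A ((IsScalarTower.toAlgHom k F L).toLinearMap) x := by
  induction x using TensorProduct.induction_on with
  | zero => simp
  | add a b ha hb => rw [TensorProduct.tmul_add, map_add, map_add, ha, hb]
  | tmul d a =>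
    rw [cancelBC_tmul, LinearMap.rTensor_tmul, Algebra.smul_def, mul_one]
    rfl

/-- if finitely many group-like elements of `L ⊗ A`, all defined over `F`, span (over `L`) a set
of algebra generators of `A`, then `F ⊗ A` is diagonalizable -/
theorem isDiagonalizable_of_finset (s₀ : Set A) (hs₀ : Algebra.adjoin k s₀ = ⊤)
    (T : Set (L ⊗[k] A)) (hTgl : ∀ g ∈ T, IsGroupLikeElem L g)
    (hTspan : ∀ a ∈ s₀, (1 : L) ⊗ₜ[k] a ∈ Submodule.span L T)
    (hTF : ∀ g ∈ T, g ∈ LinearMap.range
      (LinearMap.rTensor A ((IsScalarTower.toAlgHom k F L).toLinearMap))) :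
    HopfRep.IsDiagonalizable F (F ⊗[k] A) := by
  classical
  -- the group-likes in `T` are defined over `F`
  have hx : ∀ g ∈ T, ∃ x : F ⊗[k] A, IsGroupLikeElem F x ∧
      cancelBC k F L A ((1 : L) ⊗ₜ[F] x) = g := by
    intro g hg
    obtain ⟨x, hxg⟩ := hTF g hg
    have h2 : cancelBC k F L A ((1 : L) ⊗ₜ[F] x) = g := by
      rw [cancelBC_one_tmul]; exact hxg
    refine ⟨x, ?_, h2⟩
    apply isGroupLikeElem_of_one_tmul (K := L)
    have h3 := IsGroupLikeElem.map (cancelBC k F L A).symm (hTgl g hg)
    rw [← h2, BialgEquiv.symm_apply_apply] at h3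
    exact h3
  -- the generators lie in the span of the group-likes over `F`
  have hgen : ∀ a ∈ s₀, (1 : F) ⊗ₜ[k] a ∈
      Submodule.span F {y : F ⊗[k] A | IsGroupLikeElem F y} := by
    intro a ha
    by_contra hnot
    obtain ⟨l, hl0, hlW⟩ := Submodule.exists_le_ker_of_notMem hnot
    let lL : L ⊗[F] (F ⊗[k] A) →ₗ[L] L :=
      (TensorProduct.AlgebraTensorModule.rid F L L).toLinearMap ∘ₗ LinearMap.baseChange L l
    have hlL : ∀ (c : L) (x : F ⊗[k] A), lL (c ⊗ₜ[F] x) = l x • c := by
      intro c x
      simp [lL]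
    let l' : L ⊗[k] A →ₗ[L] L :=
      lL ∘ₗ ((cancelBC k F L A).symm : L ⊗[k] A →ₗ[L] L ⊗[F] (F ⊗[k] A))
    have hl'T : ∀ g ∈ T, l' g = 0 := by
      intro g hg
      obtain ⟨x, hxgl, hxg⟩ := hx g hg
      show lL ((cancelBC k F L A).symm g) = 0
      rw [← hxg, BialgEquiv.symm_apply_apply, hlL,
        show l x = 0 from hlW (Submodule.subset_span hxgl), zero_smul]
    have hl'span : ∀ y ∈ Submodule.span L T, l' y = 0 := by
      intro y hy
      induction hy using Submodule.span_induction with
      | mem g hg => exact hl'T g hg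
      | zero => exact map_zero _
      | add x y _ _ hx hy => rw [map_add, hx, hy, add_zero]
      | smul c x _ hx => rw [map_smul, hx, smul_zero]
    have h4 := hl'span _ (hTspan a ha)
    have h5 : l' ((1 : L) ⊗ₜ[k] a) = lL ((cancelBC k F L A).symm ((1 : L) ⊗ₜ[k] a)) := rfl
    rw [h5, cancelBC_symm_tmul, hlL, Algebra.smul_def, mul_one] at h4
    exact hl0 ((map_eq_zero_iff _ (FaithfulSMul.algebraMap_injective F L)).mp h4)
  show Submodule.span F {y : F ⊗[k] A | IsGroupLikeElem F y} = ⊤
  rw [span_groupLike_eq_adjoin]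
  have htop : Algebra.adjoin F {y : F ⊗[k] A | IsGroupLikeElem F y} = ⊤ := by
    rw [eq_top_iff, ← adjoin_one_tmul_eq_top F s₀ hs₀]
    apply Algebra.adjoin_le
    rintro _ ⟨a, ha, rfl⟩
    have := hgen a ha
    rw [span_groupLike_eq_adjoin] at this
    exact this
  rw [htop]
  rfl

end Abstract

section Main

variable {k : Type u} [Field k] {A : Type v} [CommRing A] [HopfAlgebra k A]
  [Coalgebra.IsCocomm k A] [Algebra.FiniteType k A]

/-- a group of multiplicative type of finite type over a field is split by a finite separable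
extension -/
theorem exists_finite_separable_isDiagonalizable
    (hnp : ∀ f : A, CoalgebraStruct.comul (R := k) f = f ⊗ₜ[k] 1 + 1 ⊗ₜ[k] f → f = 0) :
    ∃ F : IntermediateField k (SeparableClosure k), FiniteDimensional k F ∧
      HopfRep.IsDiagonalizable F (F ⊗[k] A) := by
  classical
  have hL : HopfRep.IsDiagonalizable (SeparableClosure k) (SeparableClosure k ⊗[k] A) :=
    isDiagonalizable_of_no_primitive_sepClosed
      (no_primitive_baseChange (SeparableClosure k) hnp)
  have hL' : Submodule.span (SeparableClosure k)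
      {g : SeparableClosure k ⊗[k] A | IsGroupLikeElem (SeparableClosure k) g} = ⊤ := hL
  obtain ⟨s₀, hs₀⟩ := (Algebra.FiniteType.out : (⊤ : Subalgebra k A).FG)
  have h1 : ∀ a : A, ∃ T : Finset (SeparableClosure k ⊗[k] A),
      (T : Set (SeparableClosure k ⊗[k] A)) ⊆
        {g : SeparableClosure k ⊗[k] A | IsGroupLikeElem (SeparableClosure k) g} ∧
      (1 : SeparableClosure k) ⊗ₜ[k] a ∈ Submodule.span (SeparableClosure k)
        (T : Set (SeparableClosure k ⊗[k] A)) := by
    intro a
    apply Submodule.mem_span_finite_of_mem_span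
    rw [hL']; trivial
  choose Tf hTf1 hTf2 using h1
  let T : Finset (SeparableClosure k ⊗[k] A) := s₀.biUnion Tf
  have hTgl : ∀ g ∈ (T : Set (SeparableClosure k ⊗[k] A)),
      IsGroupLikeElem (SeparableClosure k) g := by
    intro g hg
    obtain ⟨a, -, hga⟩ := Finset.mem_biUnion.mp (Finset.mem_coe.mp hg)
    exact hTf1 a hga
  have hTspan : ∀ a ∈ (s₀ : Set A), (1 : SeparableClosure k) ⊗ₜ[k] a ∈
      Submodule.span (SeparableClosure k) (T : Set (SeparableClosure k ⊗[k] A)) := by
    intro a ha
    refine Submodule.span_mono ?_ (hTf2 a)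
    intro g hg
    exact Finset.mem_coe.mpr (Finset.mem_biUnion.mpr ⟨a, Finset.mem_coe.mp ha, hg⟩)
  choose sf hsf using exists_finset_forall_mem_range (k := k) (L := SeparableClosure k) (A := A)
  let S : Finset (SeparableClosure k) := T.biUnion sf
  let F : IntermediateField k (SeparableClosure k) :=
    IntermediateField.adjoin k (S : Set (SeparableClosure k))
  have hFfin : FiniteDimensional k F :=
    IntermediateField.finiteDimensional_adjoin fun x _ => Algebra.IsIntegral.isIntegral x
  refine ⟨F, hFfin, ?_⟩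
  apply isDiagonalizable_of_finset (F := F) (L := SeparableClosure k) (s₀ : Set A) hs₀
    (T : Set (SeparableClosure k ⊗[k] A)) hTgl hTspan
  intro g hg
  apply hsf g F
  intro d hd
  apply IntermediateField.subset_adjoin
  exact Finset.mem_coe.mpr (Finset.mem_biUnion.mpr ⟨g, Finset.mem_coe.mp hg, hd⟩)

end Main

section DiagFT

variable {k : Type u} {F : Type u} [Field k] [Field F] [Algebra k F]
  {A : Type u} [CommRing A] [HopfAlgebra k A] [Algebra.FiniteType k A]

theorem isDiagFT_of_isDiagonalizable (h : HopfRep.IsDiagonalizable F (F ⊗[k] A)) :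
    SGA3b.IsDiagFT F (F ⊗[k] A) := by
  obtain ⟨e⟩ := nonempty_bialgEquiv_of_isDiagonalizable h
  refine ⟨GroupLike F (F ⊗[k] A), inferInstance, ?_, ⟨e⟩⟩
  have h1 : Algebra.FiniteType F (F ⊗[k] A) := Algebra.FiniteType.baseChange F
  have h2 : Algebra.FiniteType F (MonoidAlgebra F (GroupLike F (F ⊗[k] A))) :=
    h1.equiv (e : (F ⊗[k] A) ≃ₐ[F] MonoidAlgebra F (GroupLike F (F ⊗[k] A)))
  exact MonoidAlgebra.finiteType_iff_group_fg.mp h2

end DiagFT

section Final

variable {k : Type u} [Field k] {A : Type u} [CommRing A] [HopfAlgebra k A]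
  [Algebra.FiniteType k A]

/-- a group of multiplicative type and of finite type over a field is isotrivial -/
theorem exists_isDiagFT (h : SGA3b.IsMultType k A) :
    ∃ (k' : Type u) (_ : Field k') (_ : Algebra k k'), Module.Finite k k' ∧
      Algebra.IsSeparable k k' ∧ SGA3b.IsDiagFT k' (k' ⊗[k] A) := by
  have hmt := isMultTypeConst_of_isMultType h
  haveI : Coalgebra.IsCocomm k A := isCocomm_of_isMultTypeConst hmt
  obtain ⟨F, hfin, hdiag⟩ := exists_finite_separable_isDiagonalizable
    (no_primitive_of_isMultTypeConst hmt)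
  exact ⟨F, inferInstance, inferInstance, hfin, inferInstance,
    isDiagFT_of_isDiagonalizable hdiag⟩

end Final

end Groth.Agent.H9.MT
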